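import Groth.Agent.L05.PerfectResidue.Step
import Groth.Agent.L05.Hensel.Perm
import Mathlib.FieldTheory.IsAlgClosed.AlgebraicClosure
import Mathlib.RingTheory.UniqueFactorizationDomain.Multiplicity
import Mathlib.RingTheory.Localization.FractionRing
import Mathlib.RingTheory.Henselian

/-!
# A henselian extension with residue field the perfect closure
-/

universe u

open Polynomial IsLocalRing

namespace Groth.L05.PerfectResidue

set_option linter.style.haveILetI false

variable {R : Type u} [CommRing R] [IsDomain R] [IsDiscreteValuationRing R] (π : R) (p : ℕ)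
  {L : Type u} [Field L] [Algebra R L]

/-- Every finite subset lies in a small subalgebra. -/
def Good (S : Subalgebra R L) : Prop :=
  ∀ s : Finset L, (s : Set L) ⊆ S → ∃ S₀, Small π p S₀ ∧ S₀ ≤ S ∧ (s : Set L) ⊆ S₀

variable {π p}

theorem small_bot (hπ : Irreducible π) (hinj : Function.Injective (algebraMap R L)) :
    Small π p (⊥ : Subalgebra R L) := by
  let e : R ≃ₐ[R] (⊥ : Subalgebra R L) := (Algebra.botEquivOfInjective hinj).symm
  refine ⟨Module.Finite.equiv e.toLinearEquiv, Module.Free.of_equiv e.toLinearEquiv, ⟨0, ?_⟩,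
    fun x => ?_, fun x => ?_⟩
  · rw [pow_zero, ← LinearEquiv.finrank_eq e.toLinearEquiv, Module.finrank_self]
  · obtain ⟨r, rfl⟩ := e.surjective x
    by_cases hr : IsUnit r
    · exact Or.inr (hr.map e)
    · left
      have h1 : r ∈ maximalIdeal R := hr
      rw [hπ.maximalIdeal_eq, Ideal.mem_span_singleton] at h1
      have := map_dvd e h1
      rwa [show e π = algebraMap R _ π from e.commutes π] at this
  · obtain ⟨r, rfl⟩ := e.surjective x
    refine ⟨0, r, ?_⟩
    rw [pow_zero, pow_one, show e r = algebraMap R _ r from e.commutes r, sub_self]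
    exact dvd_zero _

theorem exists_maximal_good (hπ : Irreducible π) (hinj : Function.Injective (algebraMap R L)) :
    ∃ S : Subalgebra R L, Maximal (Good π p) S := by
  classical
  refine zorn_le₀ {S : Subalgebra R L | Good π p S} fun c hc hchain => ?_
  rcases c.eq_empty_or_nonempty with rfl | ⟨S₁, hS₁⟩
  · exact ⟨⊥, fun s hs => ⟨⊥, small_bot hπ hinj, le_rfl, hs⟩, fun z hz => hz.elim⟩
  haveI : Nonempty c := ⟨⟨S₁, hS₁⟩⟩
  have hdir : Directed (· ≤ ·) (fun S : c => S.1) := hchain.directedOn.directed_val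
  refine ⟨⨆ S : c, S.1, fun s hs => ?_, fun S hS => le_iSup (fun S : c => S.1) ⟨S, hS⟩⟩
  rw [Subalgebra.coe_iSup_of_directed hdir] at hs
  obtain ⟨S, hS⟩ : ∃ S : c, (s : Set L) ⊆ (S.1 : Set L) := by
    induction s using Finset.induction with
    | empty => exact ⟨Classical.arbitrary _, by simp⟩
    | insert a t _ ih =>
      rw [Finset.coe_insert, Set.insert_subset_iff] at hs
      obtain ⟨S, hS⟩ := ih hs.2
      obtain ⟨S', hS'⟩ := Set.mem_iUnion.mp hs.1
      obtain ⟨d, h1, h2⟩ := hdir S S'
      exact ⟨d, by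
        rw [Finset.coe_insert, Set.insert_subset_iff]
        exact ⟨h2 hS', hS.trans (SetLike.coe_subset_coe.mpr h1)⟩⟩
  obtain ⟨S₀, h0, h0le, hs0⟩ := hc S.2 s hS
  exact ⟨S₀, h0, h0le.trans (le_iSup (fun S : c => S.1) S), hs0⟩

theorem exists_finset_mem_adjoin {S : Subalgebra R L} (ζ : L) {x : L}
    (hx : x ∈ Algebra.adjoin R (insert ζ (S : Set L))) :
    ∃ t : Finset L, (t : Set L) ⊆ S ∧ x ∈ Algebra.adjoin R (insert ζ (t : Set L)) := by
  classical
  have mono : ∀ {t t' : Finset L} {a : L}, t ⊆ t' → a ∈ Algebra.adjoin R (insert ζ (t : Set L)) →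
      a ∈ Algebra.adjoin R (insert ζ (t' : Set L)) := fun h ha =>
    Algebra.adjoin_mono (Set.insert_subset_insert (Finset.coe_subset.mpr h)) ha
  induction hx using Algebra.adjoin_induction with
  | mem x hx =>
    rcases Set.mem_insert_iff.mp hx with rfl | hx
    · exact ⟨∅, by simp, Algebra.subset_adjoin (Set.mem_insert _ _)⟩
    · exact ⟨{x}, by simpa using hx, Algebra.subset_adjoin (by simp)⟩
  | algebraMap r => exact ⟨∅, by simp, Subalgebra.algebraMap_mem _ r⟩
  | add a b _ _ ha hb =>
    obtain ⟨t, ht, hat⟩ := ha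
    obtain ⟨t', ht', hbt⟩ := hb
    exact ⟨t ∪ t', by simpa using And.intro ht ht', add_mem (mono Finset.subset_union_left hat)
      (mono Finset.subset_union_right hbt)⟩
  | mul a b _ _ ha hb =>
    obtain ⟨t, ht, hat⟩ := ha
    obtain ⟨t', ht', hbt⟩ := hb
    exact ⟨t ∪ t', by simpa using And.intro ht ht', mul_mem (mono Finset.subset_union_left hat)
      (mono Finset.subset_union_right hbt)⟩

theorem perfect_of_maximal [IsAlgClosed L] (hπ : Irreducible π)
    (hinj : Function.Injective (algebraMap R L)) (hp : p.Prime) (hpπ : π ∣ (p : R))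
    {S : Subalgebra R L} (hS : Maximal (Good π p) S) (y : S) :
    ∃ z : S, algebraMap R S π ∣ z ^ p - y := by
  classical
  by_contra hy
  push Not at hy
  obtain ⟨ζ, hζ⟩ := IsAlgClosed.exists_pow_nat_eq (y : L) hp.pos
  have hζS : ζ ∉ S := fun h => hy ⟨ζ, h⟩ (by
    rw [show (⟨ζ, h⟩ : S) ^ p - y = 0 from sub_eq_zero.mpr (Subtype.ext hζ)]
    exact dvd_zero _)
  let S' := Algebra.adjoin R (insert ζ (S : Set L))
  have hle : S ≤ S' := fun x hx => Algebra.subset_adjoin (Set.mem_insert_of_mem _ hx)
  have hgood : Good π p S' := by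
    intro s hs
    choose t ht hxt using fun x : s => exists_finset_mem_adjoin ζ (hs x.2)
    obtain ⟨S₀, h0, h0le, hsub⟩ := hS.1 (insert (y : L) (s.attach.biUnion t)) (by
      intro a ha
      rcases Finset.mem_insert.mp (Finset.mem_coe.mp ha) with rfl | ha
      · exact y.2
      · obtain ⟨x, -, hx⟩ := Finset.mem_biUnion.mp ha
        exact ht x hx)
    have hy₀ : (y : L) ∈ S₀ := hsub (Finset.mem_insert_self _ _)
    obtain ⟨T, hT, hle₀, hζT, hTle⟩ := exists_small hπ hinj hp hpπ h0 (⟨y, hy₀⟩ : S₀) hζ fun z hz => by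
      refine hy (Subalgebra.inclusion h0le z) ?_
      have := map_dvd (Subalgebra.inclusion h0le) hz
      rwa [map_sub, map_pow, AlgHom.commutes] at this
    refine ⟨T, hT, hTle.trans (Algebra.adjoin_mono (Set.insert_subset_insert h0le)), fun x hx => ?_⟩
    refine Algebra.adjoin_le (Set.insert_subset hζT fun a ha => hle₀ (hsub ?_)) (hxt ⟨x, hx⟩)
    exact Finset.mem_insert_of_mem (Finset.mem_biUnion.mpr ⟨⟨x, hx⟩, Finset.mem_attach _ _, ha⟩)
  exact hζS (hS.2 hgood hle (Algebra.subset_adjoin (Set.mem_insert _ _)))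

theorem structure_of_good [HenselianLocalRing R] (hπ : Irreducible π)
    (hinj : Function.Injective (algebraMap R L)) {S : Subalgebra R L} (hS : Good π p S) :
    ∃ (_ : IsDiscreteValuationRing S) (_ : HenselianLocalRing S),
      (maximalIdeal R).map (algebraMap R S) = maximalIdeal S ∧ maximalIdeal S = Ideal.span {algebraMap R S π} := by
  classical
  have hget : ∀ x : S, ∃ (S₀ : Subalgebra R L) (_ : Small π p S₀) (hle : S₀ ≤ S) (w : S₀),
      Subalgebra.inclusion hle w = x := fun x => by
    obtain ⟨S₀, h0, hle, hs⟩ := hS {(x : L)} (by simpa using x.2)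
    exact ⟨S₀, h0, hle, ⟨x, hs (by simp)⟩, Subtype.ext rfl⟩
  haveI : Algebra.IsIntegral R S := ⟨fun x => by
    obtain ⟨S₀, h0, hle, w, rfl⟩ := hget x
    haveI := h0.finite
    exact (Algebra.IsIntegral.isIntegral w).map _⟩
  have hπS : ¬ IsUnit (algebraMap R S π) := fun hu => hπ.not_isUnit (by
    haveI : FaithfulSMul R S := (faithfulSMul_iff_algebraMap_injective R S).mpr fun a b h =>
      hinj (congrArg Subtype.val h)
    haveI : IsLocalHom (algebraMap R S) :=
      RingHom.IsIntegral.isLocalHom (algebraMap_isIntegral_iff.mpr inferInstance)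
        (FaithfulSMul.algebraMap_injective R S)
    exact IsLocalHom.map_nonunit π hu)
  have hdich : ∀ x : S, algebraMap R S π ∣ x ∨ IsUnit x := fun x => by
    obtain ⟨S₀, h0, hle, w, rfl⟩ := hget x
    rcases h0.dichotomy w with h | h
    · left
      have := map_dvd (Subalgebra.inclusion hle) h
      rwa [AlgHom.commutes] at this
    · exact Or.inr (h.map _)
  haveI : IsLocalRing S := IsLocalRing.of_nonunits_add (by
    intro a b ha hb
    have h1 := (hdich a).resolve_right ha
    have h2 := (hdich b).resolve_right hb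
    exact fun hu => hπS (isUnit_of_dvd_unit (dvd_add h1 h2) hu))
  have hmax : maximalIdeal S = Ideal.span {algebraMap R S π} := Ideal.ext fun x => by
    rw [Ideal.mem_span_singleton, IsLocalRing.mem_maximalIdeal, mem_nonunits_iff]
    exact ⟨fun h => (hdich x).resolve_right h, fun h hu => hπS (isUnit_of_dvd_unit h hu)⟩
  have hmap : (maximalIdeal R).map (algebraMap R S) = maximalIdeal S := by
    rw [hπ.maximalIdeal_eq, Ideal.map_span, Set.image_singleton, hmax]
  have hfac : ∀ {x : S}, x ≠ 0 → ∃ n : ℕ, Associated (algebraMap R S π ^ n) x := by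
    intro x hx
    obtain ⟨S₀, h0, hle, w, rfl⟩ := hget x
    haveI := h0.finite
    haveI : IsNoetherianRing S₀ := IsNoetherianRing.of_finite R S₀
    have hπ0 : ¬ IsUnit (algebraMap R S₀ π) := fun hu => hπS (by
      have := hu.map (Subalgebra.inclusion hle)
      rwa [AlgHom.commutes] at this)
    have hw : w ≠ 0 := fun h => hx (by rw [h, map_zero])
    obtain ⟨n, c, hc, rfl⟩ := WfDvdMonoid.max_power_factor' hw hπ0
    refine ⟨n, ((h0.dichotomy c).resolve_left hc).map (Subalgebra.inclusion hle) |>.unit, ?_⟩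
    rw [IsUnit.unit_spec, map_mul, map_pow, AlgHom.commutes]
  have hirr : Irreducible (algebraMap R S π) := by
    refine ⟨hπS, fun a b hab => ?_⟩
    by_contra hc
    push Not at hc
    obtain ⟨a', rfl⟩ := (hdich a).resolve_right hc.1
    obtain ⟨b', rfl⟩ := (hdich b).resolve_right hc.2
    have h0 : algebraMap R S π ≠ 0 := fun h0 => hπ.ne_zero (hinj (by
      simpa using congrArg Subtype.val h0))
    have h1 : algebraMap R S π * 1 = algebraMap R S π * (algebraMap R S π * (a' * b')) := by
      rw [mul_one]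
      exact hab.trans (by ring)
    exact hπS (isUnit_of_dvd_one ⟨_, mul_left_cancel₀ h0 h1⟩)
  haveI hdvr : IsDiscreteValuationRing S :=
    IsDiscreteValuationRing.ofHasUnitMulPowIrreducibleFactorization ⟨_, hirr, hfac⟩
  haveI : HenselianRing R (maximalIdeal R) := inferInstance
  haveI : HenselianRing S (maximalIdeal S) :=
    hmap ▸ Groth.L05.henselianRing_map_of_isIntegral (maximalIdeal R) S
  exact ⟨hdvr, Groth.L05.henselianLocalRing_of_henselianRing, hmap, hmax⟩

end Groth.L05.PerfectResidue
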