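import Mathlib.FieldTheory.KummerPolynomial
import Mathlib.RingTheory.AdjoinRoot
import Mathlib.RingTheory.DiscreteValuationRing.Basic
import Mathlib.Algebra.CharP.Lemmas
import Mathlib.RingTheory.Nakayama
import Mathlib.RingTheory.Ideal.GoingUp
import Mathlib.LinearAlgebra.Dimension.Free
import Mathlib.RingTheory.Noetherian.Basic

/-!
# Adjoining a `p`-th root of a residually non-`p`-th power
-/

universe u

open Polynomial IsLocalRing

namespace Groth.L05.PerfectResidue

set_option linter.style.haveILetI false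

variable {R : Type u} [CommRing R] [IsDomain R] [IsDiscreteValuationRing R] (π : R) (p : ℕ)
  {L : Type u} [Field L] [Algebra R L]

/-- A finite free subalgebra of `p`-power rank, local with maximal ideal generated by `π` and with
purely inseparable residue extension. -/
structure Small (T : Subalgebra R L) : Prop where
  finite : Module.Finite R T
  free : Module.Free R T
  rank : ∃ m : ℕ, Module.finrank R T = p ^ m
  dichotomy : ∀ x : T, algebraMap R T π ∣ x ∨ IsUnit x
  pinsep : ∀ x : T, ∃ (m : ℕ) (z : R), algebraMap R T π ∣ x ^ (p ^ m) - algebraMap R T z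

theorem dvd_pow_sub_pow {B : Type u} [CommRing B] {c a b : B} (h : c ∣ a - b) (n : ℕ) :
    c ∣ a ^ n - b ^ n := h.trans (sub_dvd_pow_sub_pow a b n)

/-- The purely inseparable elements modulo `π`. -/
theorem pinsep_of_gen {B : Type u} [CommRing B] [Algebra R B] (hp : p.Prime) (hpπ : π ∣ (p : R))
    {S₀ : Type u} [CommRing S₀] [Algebra R S₀] [Algebra S₀ B] [IsScalarTower R S₀ B]
    (hS : ∀ x : S₀, ∃ (m : ℕ) (z : R), algebraMap R S₀ π ∣ x ^ (p ^ m) - algebraMap R S₀ z)
    {g : B} {y : S₀} (hg : g ^ p = algebraMap S₀ B y) {x : B} (hx : x ∈ Algebra.adjoin S₀ {g}) :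
    ∃ (m : ℕ) (z : R), algebraMap R B π ∣ x ^ (p ^ m) - algebraMap R B z := by
  have up : ∀ {x : B} {m : ℕ} {z : R}, algebraMap R B π ∣ x ^ (p ^ m) - algebraMap R B z → ∀ j,
      algebraMap R B π ∣ x ^ (p ^ (m + j)) - algebraMap R B (z ^ (p ^ j)) := by
    intro x m z h j
    rw [map_pow, pow_add, pow_mul]
    exact dvd_pow_sub_pow h _
  have hbase : ∀ s : S₀, ∃ (m : ℕ) (z : R),
      algebraMap R B π ∣ algebraMap S₀ B s ^ (p ^ m) - algebraMap R B z := fun s => by
    obtain ⟨m, z, h⟩ := hS s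
    refine ⟨m, z, ?_⟩
    have := map_dvd (algebraMap S₀ B) h
    rwa [map_sub, map_pow, ← IsScalarTower.algebraMap_apply, ← IsScalarTower.algebraMap_apply] at this
  induction hx using Algebra.adjoin_induction with
  | mem x hx =>
    rw [Set.mem_singleton_iff] at hx
    subst hx
    obtain ⟨m, z, h⟩ := hbase y
    refine ⟨m + 1, z, ?_⟩
    rwa [pow_succ', pow_mul, hg]
  | algebraMap s => exact hbase s
  | add a b _ _ ha hb =>
    obtain ⟨m, z, h⟩ := ha
    obtain ⟨m', z', h'⟩ := hb
    have h1 := up h m'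
    have h2 := up h' m
    rw [add_comm m' m] at h2
    refine ⟨m + m', z ^ (p ^ m') + z' ^ (p ^ m), ?_⟩
    obtain ⟨r, hr⟩ := exists_add_pow_prime_pow_eq hp a b (m + m')
    have h3 : algebraMap R B π ∣ (p : B) * a * b * r := by
      rw [mul_assoc, mul_assoc]
      refine dvd_mul_of_dvd_left ?_ _
      have := map_dvd (algebraMap R B) hpπ
      rwa [map_natCast] at this
    have h4 := dvd_add (dvd_add h1 h2) h3
    refine h4.trans (dvd_of_eq ?_)
    rw [hr, map_add]
    ring
  | mul a b _ _ ha hb =>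
    obtain ⟨m, z, h⟩ := ha
    obtain ⟨m', z', h'⟩ := hb
    have h1 := up h m'
    have h2 := up h' m
    rw [add_comm m' m] at h2
    refine ⟨m + m', z ^ (p ^ m') * z' ^ (p ^ m), ?_⟩
    rw [map_mul, mul_pow]
    have e : a ^ p ^ (m + m') * b ^ p ^ (m + m') -
        algebraMap R B (z ^ p ^ m') * algebraMap R B (z' ^ p ^ m) =
        (a ^ p ^ (m + m') - algebraMap R B (z ^ p ^ m')) * b ^ p ^ (m + m') +
          algebraMap R B (z ^ p ^ m') * (b ^ p ^ (m + m') - algebraMap R B (z' ^ p ^ m)) := by ring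
    rw [e]
    exact dvd_add (dvd_mul_of_dvd_left h1 _) (dvd_mul_of_dvd_right h2 _)

variable {π p} (hπ : Irreducible π) (hinj : Function.Injective (algebraMap R L)) (hp : p.Prime)
  (hpπ : π ∣ (p : R))

include hπ in
theorem mem_jacobson {B : Type u} [CommRing B] [Algebra R B] [Module.Finite R B] :
    algebraMap R B π ∈ Ideal.jacobson (⊥ : Ideal B) := by
  rw [Ideal.jacobson, Submodule.mem_sInf]
  rintro M ⟨-, hM⟩
  haveI := hM
  have := IsLocalRing.eq_maximalIdeal (Ideal.isMaximal_comap_of_isIntegral_of_isMaximal (R := R) M)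
  rw [← Ideal.mem_comap, this, hπ.maximalIdeal_eq]
  exact Ideal.mem_span_singleton_self π

include hπ hinj hp hpπ in
theorem exists_small {S₀ : Subalgebra R L} (h : Small π p S₀) {ζ : L} (y : S₀) (hζ : ζ ^ p = (y : L))
    (hy : ∀ z : S₀, ¬ algebraMap R S₀ π ∣ z ^ p - y) :
    ∃ T : Subalgebra R L, Small π p T ∧ S₀ ≤ T ∧ ζ ∈ T ∧
      T ≤ Algebra.adjoin R (insert ζ (S₀ : Set L)) := by
  haveI := h.finite
  haveI := h.free
  haveI : IsNoetherianRing S₀ := IsNoetherianRing.of_finite R S₀
  set π₀ := algebraMap R S₀ π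
  let I : Ideal S₀ := Ideal.span {π₀}
  have hπ₀ : ¬ IsUnit π₀ := fun hu => hy 0 (hu.dvd)
  haveI : I.IsMaximal := by
    refine Ideal.isMaximal_iff.mpr ⟨fun h1 => hπ₀ ?_, fun J x _ hxI hxJ => ?_⟩
    · exact isUnit_of_dvd_one (Ideal.mem_span_singleton.mp h1)
    · have := (h.dichotomy x).resolve_left fun hd => hxI (Ideal.mem_span_singleton.mpr hd)
      exact (Ideal.eq_top_of_isUnit_mem J hxJ this) ▸ Submodule.mem_top
  letI := Ideal.Quotient.field I
  let f : S₀[X] := X ^ p - C y
  have hf : f.Monic := monic_X_pow_sub_C y hp.ne_zero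
  have hdeg : f.natDegree = p := natDegree_X_pow_sub_C
  let fbar : (S₀ ⧸ I)[X] := f.map (Ideal.Quotient.mk I)
  have hirr : Irreducible fbar := by
    show Irreducible ((X ^ p - C y).map (Ideal.Quotient.mk I))
    rw [Polynomial.map_sub, Polynomial.map_pow, map_X, map_C]
    refine X_pow_sub_C_irreducible_of_prime hp fun b hb => ?_
    obtain ⟨z, rfl⟩ := Ideal.Quotient.mk_surjective b
    rw [← map_pow, Ideal.Quotient.eq, Ideal.mem_span_singleton] at hb
    exact hy z hb
  haveI := Fact.mk hirr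
  haveI : Module.Free S₀ (AdjoinRoot f) := .of_basis (AdjoinRoot.powerBasis' hf).basis
  haveI : Module.Finite S₀ (AdjoinRoot f) := (AdjoinRoot.powerBasis' hf).finite
  haveI : Module.Finite R (AdjoinRoot f) := Module.Finite.trans S₀ _
  haveI : Module.Free R (AdjoinRoot f) := Module.Free.trans (R := R) (S := S₀)
  have hrankB : Module.finrank S₀ (AdjoinRoot f) = p := by
    rw [PowerBasis.finrank (AdjoinRoot.powerBasis' hf), AdjoinRoot.powerBasis'_dim, hdeg]
  let θ : AdjoinRoot f →+* AdjoinRoot fbar :=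
    AdjoinRoot.map (Ideal.Quotient.mk I) f fbar dvd_rfl
  have hθmk : ∀ g : S₀[X], θ (AdjoinRoot.mk f g) = AdjoinRoot.mk fbar (g.map (Ideal.Quotient.mk I)) := by
    intro g
    induction g using Polynomial.induction_on' with
    | add a b ha hb => simp only [map_add, Polynomial.map_add, ha, hb]
    | monomial n a =>
      rw [← C_mul_X_pow_eq_monomial]
      simp [θ, AdjoinRoot.map]
  have hdich : ∀ b : AdjoinRoot f, algebraMap R (AdjoinRoot f) π ∣ b ∨ IsUnit b := by
    intro b
    obtain ⟨g, rfl⟩ := AdjoinRoot.mk_surjective b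
    by_cases h0 : θ (AdjoinRoot.mk f g) = 0
    · left
      rw [← AdjoinRoot.mk_leftInverse hf (AdjoinRoot.mk f g)] at h0 ⊢
      rw [AdjoinRoot.modByMonicHom_mk] at h0 ⊢
      rw [hθmk, AdjoinRoot.mk_eq_zero] at h0
      have hz : (g %ₘ f).map (Ideal.Quotient.mk I) = 0 := by
        by_contra hne
        refine absurd (natDegree_le_of_dvd h0 hne) ?_
        rw [(hf.natDegree_map (Ideal.Quotient.mk I)), hdeg, not_le]
        refine natDegree_map_le.trans_lt ?_
        have h1 := natDegree_modByMonic_lt g hf (fun h1 => by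
          rw [h1, natDegree_one] at hdeg
          exact hp.ne_zero hdeg.symm)
        rwa [hdeg] at h1
      have hC : C π₀ ∣ g %ₘ f := by
        rw [C_dvd_iff_dvd_coeff]
        intro n
        have h1 := congrArg (fun q : (S₀ ⧸ I)[X] => q.coeff n) hz
        simp only [coeff_map, coeff_zero] at h1
        exact Ideal.mem_span_singleton.mp (Ideal.Quotient.eq_zero_iff_mem.mp h1)
      have := map_dvd (AdjoinRoot.mk f) hC
      rwa [AdjoinRoot.mk_C, show AdjoinRoot.of f π₀ = algebraMap R (AdjoinRoot f) π from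
        (IsScalarTower.algebraMap_apply R S₀ (AdjoinRoot f) π).symm] at this
    · right
      obtain ⟨c, hc⟩ := (IsUnit.mk0 _ h0).exists_right_inv
      obtain ⟨q, rfl⟩ := AdjoinRoot.mk_surjective c
      obtain ⟨q', hq'⟩ := Polynomial.map_surjective _ Ideal.Quotient.mk_surjective q
      rw [← hq', ← hθmk, ← map_mul, ← map_mul, ← sub_eq_zero, ← map_one θ, ← map_sub] at hc
      obtain ⟨d, hd⟩ := AdjoinRoot.mk_surjective (AdjoinRoot.mk f (g * q') - 1)
      rw [← hd, hθmk, AdjoinRoot.mk_eq_zero] at hc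
      obtain ⟨e, he⟩ := hc
      obtain ⟨e', rfl⟩ := Polynomial.map_surjective _ Ideal.Quotient.mk_surjective e
      rw [← Polynomial.map_mul, ← sub_eq_zero, ← Polynomial.map_sub] at he
      have hC : C π₀ ∣ d - f * e' := by
        rw [C_dvd_iff_dvd_coeff]
        intro n
        have h1 := congrArg (fun q : (S₀ ⧸ I)[X] => q.coeff n) he
        simp only [coeff_map, coeff_zero] at h1
        exact Ideal.mem_span_singleton.mp (Ideal.Quotient.eq_zero_iff_mem.mp h1)
      obtain ⟨w, hw⟩ := map_dvd (AdjoinRoot.mk f) hC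
      rw [map_sub, map_mul, AdjoinRoot.mk_self, zero_mul, sub_zero, hd, AdjoinRoot.mk_C,
        show AdjoinRoot.of f π₀ = algebraMap R (AdjoinRoot f) π from
          (IsScalarTower.algebraMap_apply R S₀ (AdjoinRoot f) π).symm, sub_eq_iff_eq_add', map_mul] at hw
      refine isUnit_of_mul_isUnit_left (y := AdjoinRoot.mk f q') ?_
      rw [hw, add_comm]
      exact Ideal.mem_jacobson_bot.mp (mem_jacobson hπ) w
  let φ : AdjoinRoot f →ₐ[R] L := AdjoinRoot.liftAlgHom f S₀.val ζ (by
    show eval₂ (S₀.val : S₀ →+* L) ζ (X ^ p - C y) = 0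
    rw [eval₂_sub, eval₂_pow, eval₂_X, eval₂_C, hζ]
    exact sub_self _)
  have hπL : algebraMap R L π ≠ 0 := fun h0 => hπ.ne_zero (hinj (h0.trans (map_zero _).symm))
  have hφinj : Function.Injective φ := by
    haveI : IsNoetherianRing (AdjoinRoot f) := IsNoetherianRing.of_finite R (AdjoinRoot f)
    rw [← AlgHom.coe_toRingHom, RingHom.injective_iff_ker_eq_bot]
    set N := RingHom.ker (φ : AdjoinRoot f →+* L)
    refine Submodule.eq_bot_of_le_smul_of_le_jacobson_bot
      (Ideal.span {algebraMap R (AdjoinRoot f) π}) N (IsNoetherian.noetherian _) ?_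
      ((Ideal.span_singleton_le_iff_mem _).mpr (mem_jacobson hπ))
    intro b hb
    rcases hdich b with ⟨c, rfl⟩ | hu
    · have hb' : φ (algebraMap R (AdjoinRoot f) π * c) = 0 := hb
      rw [map_mul, AlgHom.commutes] at hb'
      rw [smul_eq_mul]
      exact Ideal.mul_mem_mul (Ideal.mem_span_singleton_self _)
        ((mul_eq_zero.mp hb').resolve_left hπL)
    · exact absurd hb fun hb' => (hu.map φ).ne_zero hb'
  let e : AdjoinRoot f ≃ₐ[R] φ.range := AlgEquiv.ofInjective φ hφinj
  refine ⟨φ.range, ⟨Module.Finite.equiv e.toLinearEquiv, Module.Free.of_equiv e.toLinearEquiv, ?_,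
    fun x => ?_, fun x => ?_⟩, fun x hx => ?_, ⟨AdjoinRoot.root f, AdjoinRoot.liftAlgHom_root _ _ _ _⟩,
    ?_⟩
  · obtain ⟨m, hm⟩ := h.rank
    refine ⟨m + 1, ?_⟩
    rw [← LinearEquiv.finrank_eq e.toLinearEquiv, ← Module.finrank_mul_finrank R S₀ (AdjoinRoot f), hm,
      hrankB, pow_succ]
  · obtain ⟨b, rfl⟩ := e.surjective x
    rcases hdich b with hd | hu
    · left
      have := map_dvd e hd
      rwa [e.commutes] at this
    · exact Or.inr (hu.map e)
  · obtain ⟨b, rfl⟩ := e.surjective x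
    obtain ⟨m, z, hmz⟩ := pinsep_of_gen π p hp hpπ h.pinsep (g := AdjoinRoot.root f) (y := y) (by
      have := AdjoinRoot.eval₂_root f
      rw [eval₂_sub, eval₂_pow, eval₂_X, eval₂_C, sub_eq_zero] at this
      exact this) (x := b) (by rw [AdjoinRoot.adjoinRoot_eq_top]; trivial)
    refine ⟨m, z, ?_⟩
    have := map_dvd e hmz
    rwa [map_sub, map_pow, e.commutes, e.commutes] at this
  · exact ⟨AdjoinRoot.of f ⟨x, hx⟩, AdjoinRoot.liftAlgHom_of _ _ _ _ _⟩
  · rintro x ⟨b, rfl⟩
    obtain ⟨g, rfl⟩ := AdjoinRoot.mk_surjective b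
    show φ (AdjoinRoot.mk f g) ∈ _
    rw [AdjoinRoot.liftAlgHom_mk, eval₂_eq_sum, Polynomial.sum]
    refine sum_mem fun n _ => mul_mem (Algebra.subset_adjoin (Set.mem_insert_of_mem _ (g.coeff n).2))
      (pow_mem (Algebra.subset_adjoin (Set.mem_insert _ _)) n)

end Groth.L05.PerfectResidue
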